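import Groth.Agent.GoodQuot99.Basic
import Groth.Agent.AlgGrp79.Orbit
import Groth.Agent.AlgGrp79.ActKer
import Groth.Agent.Var76.OrbitSmooth
import Groth.Agent.Mag88.Field

/-!
Orbit closures and fibres of good quotients.
-/

set_option autoImplicit false
set_option linter.style.haveILetI false

noncomputable section

universe u

open CategoryTheory MonoidalCategory CartesianMonoidalCategory MonObj AlgebraicGeometry CategoryTheory.Limits

namespace Groth.Agent.GoodQuot99

variable {k : Type u} [Field k] {G X Y : Over (Spec (CommRingCat.of k))}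

/-- The image point of a rational point. -/
abbrev pt (x : 𝟙_ (Over (Spec (CommRingCat.of k))) ⟶ X) : X.left :=
  x.left.base (IsLocalRing.closedPoint k)

theorem exists_ring (y : 𝟙_ (Over (Spec (CommRingCat.of k))) ⟶ Y) {V : Y.left.Opens} (hV : IsAffineOpen V)
    (hy : pt y ∈ V) :
    ∃ ψ : Γ(Y.left, V) ⟶ CommRingCat.of k, Spec.map ψ ≫ hV.fromSpec = y.left ∧
      Spec.preimage (hV.fromSpec ≫ Y.hom) ≫ ψ = 𝟙 _ := by
  haveI : Subsingleton ↥(Spec (CommRingCat.of k)) := inferInstanceAs (Subsingleton (PrimeSpectrum k))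
  have hr : Set.range y.left ⊆ Set.range hV.fromSpec := by
    rw [hV.range_fromSpec]
    rintro - ⟨p, rfl⟩
    have : p = IsLocalRing.closedPoint k := Subsingleton.elim (α := ↥(Spec (CommRingCat.of k))) _ _
    rw [this]; exact hy
  let l : Spec (CommRingCat.of k) ⟶ Spec Γ(Y.left, V) := IsOpenImmersion.lift hV.fromSpec y.left hr
  refine ⟨Spec.preimage l, ?_, ?_⟩
  · rw [Spec.map_preimage]; exact IsOpenImmersion.lift_fac hV.fromSpec y.left hr
  · apply Spec.map_injective
    rw [Spec.map_comp, Spec.map_preimage, Spec.map_preimage, Spec.map_id]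
    rw [IsOpenImmersion.lift_fac_assoc]
    exact Over.w y

theorem apply_c {V : Y.left.Opens} (ψ : Γ(Y.left, V) ⟶ CommRingCat.of k)
    {c : CommRingCat.of k ⟶ Γ(Y.left, V)} (h : c ≫ ψ = 𝟙 _) (a : k) : ψ.hom (c.hom a) = a :=
  congr($(h).hom a)

theorem eq_of_mem_closure (y : 𝟙_ (Over (Spec (CommRingCat.of k))) ⟶ Y) {z : Y.left}
    (hz : z ∈ closure {pt y}) : z = pt y := by
  have hs : pt y ⤳ z := specializes_iff_mem_closure.mpr hz
  obtain ⟨V, hV, hzV, -⟩ := exists_isAffineOpen_mem_and_subset (X := Y.left) (x := z) (U := ⊤) trivial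
  have hyV : pt y ∈ V := hs.mem_open V.2 hzV
  obtain ⟨ψ, h1, h2⟩ := exists_ring y hV hyV
  obtain ⟨q, rfl⟩ : z ∈ Set.range hV.fromSpec := by rw [hV.range_fromSpec]; exact hzV
  have hy : pt y = hV.fromSpec (Spec.map ψ (IsLocalRing.closedPoint k)) := by
    rw [← Scheme.Hom.comp_apply, h1]
  rw [hy] at hs ⊢
  have hs' := hV.fromSpec.isOpenEmbedding.isInducing.specializes_iff.mp hs
  have hmax : (Spec.map ψ (IsLocalRing.closedPoint k)).asIdeal.IsMaximal := by
    show Ideal.IsMaximal (Ideal.comap ψ.hom (IsLocalRing.maximalIdeal k))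
    haveI : Ideal.IsMaximal (IsLocalRing.maximalIdeal k) := inferInstance
    exact Ideal.comap_isMaximal_of_surjective _ fun a => ⟨_, apply_c ψ h2 a⟩
  exact congrArg hV.fromSpec
    (PrimeSpectrum.ext (hmax.eq_of_le q.isPrime.ne_top ((PrimeSpectrum.le_iff_specializes _ q).mpr hs')).symm)

theorem ext_of_pt (y₁ y₂ : 𝟙_ (Over (Spec (CommRingCat.of k))) ⟶ Y) (h : pt y₁ = pt y₂) : y₁ = y₂ := by
  obtain ⟨V, hV, hV1, -⟩ := exists_isAffineOpen_mem_and_subset (X := Y.left) (x := pt y₁) (U := ⊤) trivial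
  obtain ⟨ψ₁, a1, b1⟩ := exists_ring y₁ hV hV1
  obtain ⟨ψ₂, a2, b2⟩ := exists_ring y₂ hV (h ▸ hV1)
  have hk : RingHom.ker ψ₁.hom = RingHom.ker ψ₂.hom := by
    have e : hV.fromSpec (Spec.map ψ₁ (IsLocalRing.closedPoint k)) =
        hV.fromSpec (Spec.map ψ₂ (IsLocalRing.closedPoint k)) := by
      rw [← Scheme.Hom.comp_apply, ← Scheme.Hom.comp_apply, a1, a2]; exact h
    have e' := congrArg PrimeSpectrum.asIdeal (hV.fromSpec.isOpenEmbedding.injective e)
    have hm : ∀ ψ : Γ(Y.left, V) ⟶ CommRingCat.of k,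
        (Spec.map ψ (IsLocalRing.closedPoint k)).asIdeal = RingHom.ker ψ.hom := fun ψ => by
      show Ideal.comap ψ.hom (IsLocalRing.maximalIdeal k) = _
      rw [IsLocalRing.maximalIdeal_eq_bot]; rfl
    rwa [hm, hm] at e'
  apply Over.OverMorphism.ext
  rw [← a1, ← a2]
  congr 2
  ext b
  set c := Spec.preimage (hV.fromSpec ≫ Y.hom)
  have hb : b - c.hom (ψ₁.hom b) ∈ RingHom.ker ψ₂.hom := by
    rw [← hk, RingHom.mem_ker, map_sub, apply_c ψ₁ b1, sub_self]
  rw [RingHom.mem_ker, map_sub, apply_c ψ₂ b2, sub_eq_zero] at hb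
  exact hb.symm

variable [GrpObj G] (a : AlgGrp.Action G X)

theorem universallyOpen_of_field [LocallyOfFiniteType G.hom] : UniversallyOpen G.hom := by
  haveI : IsLocallyNoetherian (Spec (CommRingCat.of k)) := inferInstance
  haveI := Var76.ActTrans.lfp_of_lft G.hom
  haveI := Mag88.flat_over_field G
  infer_instance

/-- Closures of invariant sets are invariant. -/
theorem isInvariantSet_closure [LocallyOfFiniteType G.hom] {W : Set X.left} (hW : NRQuot.IsInvariantSet a W) :
    NRQuot.IsInvariantSet a (closure W) := by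
  haveI : UniversallyOpen G.hom := universallyOpen_of_field
  have hop : IsOpenMap (snd G X).left.base := by
    haveI : UniversallyOpen (snd G X).left := inferInstanceAs (UniversallyOpen (pullback.snd G.hom X.hom))
    exact (snd G X).left.isOpenMap
  intro p hp
  have h1 : p ∈ closure ((snd G X).left.base ⁻¹' W) := hop.preimage_closure_subset_closure_preimage hp
  exact map_mem_closure a.act.left.continuous h1 fun q hq => hW q hq

theorem isInvariantSet_orbit (x : 𝟙_ (Over (Spec (CommRingCat.of k))) ⟶ X) :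
    NRQuot.IsInvariantSet a (Set.range (a.orbitMap x).left.base) := by
  intro p hp
  obtain ⟨g, hg⟩ := hp
  obtain ⟨q, hq1, hq2⟩ := Scheme.Pullback.exists_preimage_pullback (f := (snd G X).left) (g := (a.orbitMap x).left) p g hg.symm
  let T : Over (Spec (CommRingCat.of k)) :=
    Over.mk (pullback.fst (snd G X).left (a.orbitMap x).left ≫ (G ⊗ X).hom)
  let u : T ⟶ G ⊗ X := Over.homMk (pullback.fst _ _) rfl
  let v : T ⟶ G := Over.homMk (pullback.snd _ _) (by
    show pullback.snd _ _ ≫ G.hom = pullback.fst _ _ ≫ (G ⊗ X).hom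
    rw [← Over.w (a.orbitMap x), ← pullback.condition_assoc, Over.w (snd G X)])
  have huv : u ≫ snd G X = v ≫ a.orbitMap x := Over.OverMorphism.ext pullback.condition
  have key : u ≫ a.act = ((u ≫ fst G X) * v) ≫ a.orbitMap x := by
    rw [AlgGrp79.comp_orbitMap, AlgGrp79.mul_act', ← AlgGrp79.comp_orbitMap, ← huv]
    congr 1
    ext <;> simp
  refine ⟨((u ≫ fst G X) * v).left.base q, ?_⟩
  have := congr($(congrArg CommaMorphism.left key).base q)
  rw [← hq1]
  exact this.symm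

theorem pt_mem_orbit (x : 𝟙_ (Over (Spec (CommRingCat.of k))) ⟶ X) :
    pt x ∈ Set.range (a.orbitMap x).left.base := by
  refine ⟨pt (1 : 𝟙_ (Over (Spec (CommRingCat.of k))) ⟶ G), ?_⟩
  have h : (1 : 𝟙_ (Over (Spec (CommRingCat.of k))) ⟶ G) ≫ a.orbitMap x = x := by
    rw [AlgGrp79.comp_orbitMap, AlgGrp79.one_act', toUnit_unique (toUnit _) (𝟙 _), Category.id_comp]
  conv_rhs => rw [← h]
  rfl

variable {a} {φ : X ⟶ Y}

theorem map_closure_orbit (h : GIT.IsInvariant a φ) (x : 𝟙_ (Over (Spec (CommRingCat.of k))) ⟶ X) {z : X.left}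
    (hz : z ∈ closure (Set.range (a.orbitMap x).left.base)) : φ.left.base z = pt (x ≫ φ) := by
  refine eq_of_mem_closure (x ≫ φ) (map_mem_closure φ.left.continuous hz ?_)
  rintro - ⟨g, rfl⟩
  have e : a.orbitMap x ≫ φ = toUnit G ≫ x ≫ φ := by
    rw [AlgGrp.Action.orbitMap, Category.assoc, h, lift_snd_assoc, Category.assoc]
  have h' := congr($(congrArg CommaMorphism.left e).base g)
  haveI : Subsingleton ↥(Spec (CommRingCat.of k)) := inferInstanceAs (Subsingleton (PrimeSpectrum k))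
  refine Set.mem_singleton_iff.mpr (h'.trans ?_)
  exact congrArg (x ≫ φ).left.base (Subsingleton.elim (α := ↥(Spec (CommRingCat.of k))) _ (IsLocalRing.closedPoint k))

theorem closure_orbit_inter_iff [LocallyOfFiniteType G.hom] (h : NRQuot.IsGoodQuot a φ)
    (x₁ x₂ : 𝟙_ (Over (Spec (CommRingCat.of k))) ⟶ X) :
    (closure (Set.range (a.orbitMap x₁).left.base) ∩ closure (Set.range (a.orbitMap x₂).left.base)).Nonempty ↔
      x₁ ≫ φ = x₂ ≫ φ := by
  constructor
  · rintro ⟨z, h1, h2⟩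
    exact ext_of_pt _ _ ((map_closure_orbit h.inv x₁ h1).symm.trans (map_closure_orbit h.inv x₂ h2))
  · intro he
    let W : ULift.{u} Bool → Set X.left := fun b =>
      if b.down then closure (Set.range (a.orbitMap x₁).left.base)
      else closure (Set.range (a.orbitMap x₂).left.base)
    have hW := h.inter _ W (fun b => by rcases b with ⟨⟨⟩⟩ <;> exact isClosed_closure)
      (fun b => by
        rcases b with ⟨⟨⟩⟩
        · exact isInvariantSet_closure a (isInvariantSet_orbit a x₂)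
        · exact isInvariantSet_closure a (isInvariantSet_orbit a x₁))
    have hm : pt (x₁ ≫ φ) ∈ ⋂ b, φ.left.base '' W b := by
      refine Set.mem_iInter.mpr fun b => ?_
      rcases b with ⟨⟨⟩⟩
      · rw [he]; exact ⟨pt x₂, subset_closure (pt_mem_orbit a x₂), rfl⟩
      · exact ⟨pt x₁, subset_closure (pt_mem_orbit a x₁), rfl⟩
    rw [← hW] at hm
    obtain ⟨z, hz, -⟩ := hm
    exact ⟨z, Set.mem_iInter.mp hz ⟨true⟩, Set.mem_iInter.mp hz ⟨false⟩⟩

variable [IsAlgClosed k]

theorem exists_pt_of_mem_orbit [LocallyOfFiniteType G.hom] [LocallyOfFiniteType X.hom]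
    (x z : 𝟙_ (Over (Spec (CommRingCat.of k))) ⟶ X) (hz : pt z ∈ Set.range (a.orbitMap x).left.base) :
    ∃ g : 𝟙_ (Over (Spec (CommRingCat.of k))) ⟶ G, lift g x ≫ a.act = z := by
  haveI : JacobsonSpace G.left := LocallyOfFiniteType.jacobsonSpace G.hom
  obtain ⟨p, hp, hpc⟩ := nonempty_inter_closedPoints (Z := (a.orbitMap x).left.base ⁻¹' {pt z})
    (let ⟨p, hp⟩ := hz; ⟨p, hp⟩)
    ((AlgGrp79.rat_isClosed z).preimage (a.orbitMap x).left.continuous).isLocallyClosed
  let g := Var76.ActTrans.sec G p hpc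
  refine ⟨g, ext_of_pt _ _ ?_⟩
  have hg : g ≫ a.orbitMap x = lift g x ≫ a.act := by
    rw [AlgGrp79.comp_orbitMap, toUnit_unique (toUnit _) (𝟙 _), Category.id_comp]
  rw [← hg]
  refine Eq.trans ?_ hp
  show (a.orbitMap x).left.base (g.left.base (IsLocalRing.closedPoint k)) = (a.orbitMap x).left.base p
  exact congrArg _ (Var76.ActTrans.sec_apply G p hpc _)

theorem exists_act_eq [LocallyOfFiniteType G.hom] [LocallyOfFiniteType X.hom] (h : NRQuot.IsGoodQuot a φ)
    (hcl : ∀ x : 𝟙_ (Over (Spec (CommRingCat.of k))) ⟶ X, IsClosed (Set.range (a.orbitMap x).left.base))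
    (x₁ x₂ : 𝟙_ (Over (Spec (CommRingCat.of k))) ⟶ X) (he : x₁ ≫ φ = x₂ ≫ φ) :
    ∃ g : 𝟙_ (Over (Spec (CommRingCat.of k))) ⟶ G, lift g x₁ ≫ a.act = x₂ := by
  have hne := (closure_orbit_inter_iff h x₁ x₂).mpr he
  rw [(hcl x₁).closure_eq, (hcl x₂).closure_eq] at hne
  haveI : JacobsonSpace X.left := LocallyOfFiniteType.jacobsonSpace X.hom
  obtain ⟨z, hz, hzc⟩ := nonempty_inter_closedPoints hne ((hcl x₁).inter (hcl x₂)).isLocallyClosed
  let s := Var76.ActTrans.sec X z hzc
  have hs : pt s = z := Var76.ActTrans.sec_apply X z hzc _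
  obtain ⟨g₁, h1⟩ := exists_pt_of_mem_orbit x₁ s (hs ▸ hz.1)
  obtain ⟨g₂, h2⟩ := exists_pt_of_mem_orbit x₂ s (hs ▸ hz.2)
  refine ⟨g₂⁻¹ * g₁, ?_⟩
  rw [AlgGrp79.mul_act', h1, ← h2, AlgGrp79.inv_act_act]

end Groth.Agent.GoodQuot99
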