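import Groth.Prelude.Def_W4c6nonredquotmfGoodQuot

/-!
Topology of good quotients.
-/

set_option autoImplicit false
set_option linter.style.haveILetI false

noncomputable section

universe u

open CategoryTheory MonoidalCategory CartesianMonoidalCategory MonObj AlgebraicGeometry

namespace Groth.Agent.GoodQuot99

variable {S : Scheme.{u}} {G : Over S} [GrpObj G] {X Y : Over S} {a : AlgGrp.Action G X} {φ : X ⟶ Y}

theorem base_act (h : GIT.IsInvariant a φ) (p : ↥(G ⊗ X).left) :
    φ.left.base (a.act.left.base p) = φ.left.base ((snd G X).left.base p) := by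
  have := congr($(congrArg CommaMorphism.left h).base p)
  simpa using this

theorem isInvariantSet_preimage (h : GIT.IsInvariant a φ) (s : Set ↥Y.left) :
    NRQuot.IsInvariantSet a (φ.left.base ⁻¹' s) := fun p hp => by
  show φ.left.base (a.act.left.base p) ∈ s
  rw [base_act h p]; exact hp

theorem surjective (h : NRQuot.IsGoodQuot a φ) : Function.Surjective φ.left.base := by
  have := h.inter PEmpty.{u + 1} (fun i => i.elim) (fun i => i.elim) (fun i => i.elim)
  rw [Set.iInter_of_empty, Set.iInter_of_empty] at this
  exact fun y => by
    obtain ⟨x, -, hx⟩ := this.ge (Set.mem_univ y)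
    exact ⟨x, hx⟩

theorem isQuotientMap (h : NRQuot.IsGoodQuot a φ) : Topology.IsQuotientMap φ.left.base := by
  refine Topology.isQuotientMap_iff_isClosed.mpr ⟨surjective h, fun s => ⟨fun hs => hs.preimage φ.left.continuous, fun hs => ?_⟩⟩
  have := h.closed _ hs (isInvariantSet_preimage h.inv s)
  rwa [Set.image_preimage_eq s (surjective h)] at this

end Groth.Agent.GoodQuot99
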