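import Groth.Agent.GoodQuot99.Orbits

/-!
Each fibre of a good quotient over a rational point contains a unique closed orbit.
-/

set_option autoImplicit false
set_option linter.style.haveILetI false

noncomputable section

universe u

open CategoryTheory MonoidalCategory CartesianMonoidalCategory MonObj AlgebraicGeometry CategoryTheory.Limits TopologicalSpace

namespace Groth.Agent.GoodQuot99

variable {k : Type u} [Field k] [IsAlgClosed k] {G X Y : Over (Spec (CommRingCat.of k))} [GrpObj G]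
  {a : AlgGrp.Action G X} {φ : X ⟶ Y}

theorem pt_lift_act_mem (W : Set X.left) (hW : NRQuot.IsInvariantSet a W)
    (s : 𝟙_ (Over (Spec (CommRingCat.of k))) ⟶ X) (hs : pt s ∈ W) (g : G.left) :
    (a.orbitMap s).left.base g ∈ W := by
  haveI : Subsingleton ↥(Spec (CommRingCat.of k)) := inferInstanceAs (Subsingleton (PrimeSpectrum k))
  have h : (lift (𝟙 G) (toUnit G ≫ s)).left.base g ∈ (snd G X).left.base ⁻¹' W := by
    show (snd G X).left.base ((lift (𝟙 G) (toUnit G ≫ s)).left.base g) ∈ W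
    have e := congr($(congrArg CommaMorphism.left (lift_snd (𝟙 G) (toUnit G ≫ s))).base g)
    refine Set.mem_of_eq_of_mem (y := s.left.base ((toUnit G).left.base g)) e ?_
    rw [Subsingleton.elim (α := ↥(Spec (CommRingCat.of k))) ((toUnit G).left.base g) (IsLocalRing.closedPoint k)]
    exact hs
  exact hW _ h

variable [IsAffine G.left] [LocallyOfFiniteType G.hom] [LocallyOfFiniteType X.hom]

theorem isLocallyClosed_orbit (x : 𝟙_ (Over (Spec (CommRingCat.of k))) ⟶ X) :
    IsLocallyClosed (Set.range (a.orbitMap x).left.base) := by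
  haveI : QuasiCompact G.hom := inferInstance
  exact AlgGrp79.isLocallyClosed_range_equivariant a (a.orbitMap x) (AlgGrp79.orbitMap_equivariant a x)

/-- Two rational points in the closure of each other's orbits have the same orbit. -/
theorem mem_orbit_of_mutual (x s : 𝟙_ (Over (Spec (CommRingCat.of k))) ⟶ X)
    (hx : pt x ∈ closure (Set.range (a.orbitMap s).left.base))
    (hs : pt s ∈ closure (Set.range (a.orbitMap x).left.base)) :
    pt s ∈ Set.range (a.orbitMap x).left.base := by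
  have hsub : Set.range (a.orbitMap s).left.base ⊆ closure (Set.range (a.orbitMap x).left.base) := by
    rintro - ⟨g, rfl⟩
    exact pt_lift_act_mem _ (isInvariantSet_closure a (isInvariantSet_orbit a x)) s hs g
  obtain ⟨O, hO, hOx⟩ : ∃ O : Set X.left, IsOpen O ∧
      O ∩ closure (Set.range (a.orbitMap x).left.base) = Set.range (a.orbitMap x).left.base := by
    obtain ⟨O, C, hO, hC, e⟩ := isLocallyClosed_orbit (a := a) x
    refine ⟨O, hO, Set.Subset.antisymm ?_ fun z hz => ⟨(e.le hz).1, subset_closure hz⟩⟩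
    rintro z ⟨hzO, hzc⟩
    exact e.ge ⟨hzO, (closure_minimal (fun w hw => (e.le hw).2) hC) hzc⟩
  have hxO : pt x ∈ O := (hOx.ge (pt_mem_orbit a x)).1
  obtain ⟨w, hwO, hws⟩ := mem_closure_iff.mp hx O hO hxO
  haveI : JacobsonSpace X.left := LocallyOfFiniteType.jacobsonSpace X.hom
  obtain ⟨t, ⟨ht1, ht2⟩, htc⟩ := nonempty_inter_closedPoints
    (Z := Set.range (a.orbitMap x).left.base ∩ Set.range (a.orbitMap s).left.base)
    ⟨w, hOx.le ⟨hwO, hsub hws⟩, hws⟩ ((isLocallyClosed_orbit x).inter (isLocallyClosed_orbit s))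
  let σ := Var76.ActTrans.sec X t htc
  have hσ : pt σ = t := Var76.ActTrans.sec_apply X t htc _
  obtain ⟨g₁, h1⟩ := exists_pt_of_mem_orbit x σ (hσ ▸ ht1)
  obtain ⟨g₂, h2⟩ := exists_pt_of_mem_orbit s σ (hσ ▸ ht2)
  have h3 : lift (g₂⁻¹ * g₁) x ≫ a.act = s := by
    rw [AlgGrp79.mul_act', h1, ← h2, AlgGrp79.inv_act_act]
  refine ⟨pt (g₂⁻¹ * g₁), ?_⟩
  conv_rhs => rw [← h3]
  have : (g₂⁻¹ * g₁) ≫ a.orbitMap x = lift (g₂⁻¹ * g₁) x ≫ a.act := by
    rw [AlgGrp79.comp_orbitMap, toUnit_unique (toUnit _) (𝟙 _), Category.id_comp]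
  rw [← this]
  rfl

theorem exists_isClosed_orbit (h : NRQuot.IsGoodQuot a φ) (y : 𝟙_ (Over (Spec (CommRingCat.of k))) ⟶ Y) :
    ∃ x : 𝟙_ (Over (Spec (CommRingCat.of k))) ⟶ X, x ≫ φ = y ∧
      IsClosed (Set.range (a.orbitMap x).left.base) := by
  haveI := h.affine
  haveI : JacobsonSpace X.left := LocallyOfFiniteType.jacobsonSpace X.hom
  haveI : IsLocallyNoetherian X.left := LocallyOfFiniteType.isLocallyNoetherian X.hom
  have hyc : IsClosed {pt y} := by
    rw [← closure_eq_iff_isClosed]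
    exact Set.Subset.antisymm (fun z hz => eq_of_mem_closure y hz) subset_closure
  obtain ⟨x₀, hx₀, hx₀c⟩ := nonempty_inter_closedPoints (Z := φ.left.base ⁻¹' {pt y})
    (let ⟨z, hz⟩ := surjective h (pt y); ⟨z, hz⟩) (hyc.preimage φ.left.continuous).isLocallyClosed
  have hover : ∀ x : 𝟙_ (Over (Spec (CommRingCat.of k))) ⟶ X, φ.left.base (pt x) = pt y → x ≫ φ = y :=
    fun x hx => ext_of_pt _ _ hx
  obtain ⟨V, hV, hyV, -⟩ := exists_isAffineOpen_mem_and_subset (X := Y.left) (x := pt y) (U := ⊤) trivial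
  let U : X.left.Opens := φ.left ⁻¹ᵁ V
  haveI : IsAffine (U : Scheme.{u}) := hV.preimage φ.left
  haveI : IsLocallyNoetherian (U : Scheme.{u}) := isLocallyNoetherian_of_isOpenImmersion U.ι
  haveI : CompactSpace (U : Scheme.{u}) := inferInstance
  haveI : IsNoetherian (U : Scheme.{u}) := ⟨⟩
  let f : (𝟙_ (Over (Spec (CommRingCat.of k))) ⟶ X) → Closeds ↥(U : Scheme.{u}) := fun x =>
    ⟨U.ι.base ⁻¹' closure (Set.range (a.orbitMap x).left.base), isClosed_closure.preimage U.ι.continuous⟩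
  let σ₀ := Var76.ActTrans.sec X x₀ hx₀c
  have hσ₀ : φ.left.base (pt σ₀) = pt y := (congrArg φ.left.base (Var76.ActTrans.sec_apply X x₀ hx₀c _)).trans hx₀
  obtain ⟨_, ⟨x, hx, rfl⟩, hmin⟩ := (wellFounded_lt (α := Closeds ↥(U : Scheme.{u}))).has_min
    (f '' {x | φ.left.base (pt x) = pt y}) ⟨_, σ₀, hσ₀, rfl⟩
  refine ⟨x, hover x hx, ?_⟩
  by_contra hncl
  obtain ⟨z, hz, hzn⟩ : ∃ z, z ∈ closure (Set.range (a.orbitMap x).left.base) ∧
      z ∉ Set.range (a.orbitMap x).left.base := by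
    by_contra! hall
    exact hncl (isClosed_of_closure_subset hall)
  obtain ⟨s, ⟨hs, hsn⟩, hsc⟩ := nonempty_inter_closedPoints
    (Z := closure (Set.range (a.orbitMap x).left.base) \ Set.range (a.orbitMap x).left.base) ⟨z, hz, hzn⟩ (by
      obtain ⟨O, C, hO, hC, e⟩ := isLocallyClosed_orbit (a := a) x
      have : closure (Set.range (a.orbitMap x).left.base) \ Set.range (a.orbitMap x).left.base =
          closure (Set.range (a.orbitMap x).left.base) ∩ Oᶜ := by
        ext w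
        exact ⟨fun hw => ⟨hw.1, fun hwO => hw.2 (e.ge ⟨hwO, closure_minimal (fun v hv => (e.le hv).2) hC hw.1⟩)⟩,
          fun hw => ⟨hw.1, fun hwx => hw.2 (e.le hwx).1⟩⟩
      rw [this]
      exact (isClosed_closure.inter hO.isClosed_compl).isLocallyClosed)
  let τ := Var76.ActTrans.sec X s hsc
  have hτ : pt τ = s := Var76.ActTrans.sec_apply X s hsc _
  have hτy : φ.left.base (pt τ) = pt y := by
    rw [hτ, map_closure_orbit h.inv x hs]
    exact hx
  have hsub : closure (Set.range (a.orbitMap τ).left.base) ⊆ closure (Set.range (a.orbitMap x).left.base) := by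
    refine closure_minimal ?_ isClosed_closure
    rintro - ⟨g, rfl⟩
    exact pt_lift_act_mem _ (isInvariantSet_closure a (isInvariantSet_orbit a x)) τ (hτ ▸ hs) g
  refine hmin (f τ) ⟨τ, hτy, rfl⟩ (lt_of_le_of_ne (fun w hw => hsub hw) fun he => ?_)
  have hxU : pt x ∈ Set.range U.ι.base := by
    rw [Scheme.Opens.range_ι]
    show φ.left.base (pt x) ∈ V
    rw [hx]; exact hyV
  obtain ⟨w, hw⟩ := hxU
  have hwx : w ∈ f x := by
    show U.ι.base w ∈ closure _
    rw [hw]; exact subset_closure (pt_mem_orbit a x)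
  rw [← he] at hwx
  have hxτ : pt x ∈ closure (Set.range (a.orbitMap τ).left.base) := hw ▸ hwx
  exact hsn (hτ ▸ mem_orbit_of_mutual x τ hxτ (hτ ▸ hs))

omit [IsAffine G.left] in
theorem exists_act_eq_of_isClosed (h : NRQuot.IsGoodQuot a φ)
    (x₁ x₂ : 𝟙_ (Over (Spec (CommRingCat.of k))) ⟶ X) (he : x₁ ≫ φ = x₂ ≫ φ)
    (h₁ : IsClosed (Set.range (a.orbitMap x₁).left.base)) (h₂ : IsClosed (Set.range (a.orbitMap x₂).left.base)) :
    ∃ g : 𝟙_ (Over (Spec (CommRingCat.of k))) ⟶ G, lift g x₁ ≫ a.act = x₂ := by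
  have hne := (closure_orbit_inter_iff h x₁ x₂).mpr he
  rw [h₁.closure_eq, h₂.closure_eq] at hne
  haveI : JacobsonSpace X.left := LocallyOfFiniteType.jacobsonSpace X.hom
  obtain ⟨z, hz, hzc⟩ := nonempty_inter_closedPoints hne (h₁.inter h₂).isLocallyClosed
  let s := Var76.ActTrans.sec X z hzc
  have hs : pt s = z := Var76.ActTrans.sec_apply X z hzc _
  obtain ⟨g₁, e1⟩ := exists_pt_of_mem_orbit x₁ s (hs ▸ hz.1)
  obtain ⟨g₂, e2⟩ := exists_pt_of_mem_orbit x₂ s (hs ▸ hz.2)
  refine ⟨g₂⁻¹ * g₁, ?_⟩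
  rw [AlgGrp79.mul_act', e1, ← e2, AlgGrp79.inv_act_act]

end Groth.Agent.GoodQuot99
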