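import Groth.Agent.GoodQuot99.Orbits

/-!
Restriction of a good quotient to an open subset of the target.
-/

set_option autoImplicit false
set_option linter.style.haveILetI false

noncomputable section

universe u

open CategoryTheory MonoidalCategory CartesianMonoidalCategory MonObj AlgebraicGeometry CategoryTheory.Limits

namespace Groth.Agent.GoodQuot99

theorem bijective_appLE {A B : Scheme.{u}} (j : A ⟶ B) [IsOpenImmersion j] {U : B.Opens} {V : A.Opens}
    (hV : V = j ⁻¹ᵁ U) (hU : U ≤ j.opensRange) (e : V ≤ j ⁻¹ᵁ U) :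
    Function.Bijective (j.appLE U V e) := by
  subst hV
  rw [← Scheme.Hom.app_eq_appLE]
  haveI := j.isIso_app U hU
  exact ConcreteCategory.bijective_of_isIso (j.app U)

theorem appLE_appLE {A B C : Scheme.{u}} (f : A ⟶ B) (g : B ⟶ C) (U : C.Opens) (V : B.Opens) (W : A.Opens)
    (e₁ : V ≤ g ⁻¹ᵁ U) (e₂ : W ≤ f ⁻¹ᵁ V) (s : Γ(C, U)) :
    f.appLE V W e₂ (g.appLE U V e₁ s) =
      (f ≫ g).appLE U W (fun x hx => e₁ (e₂ hx)) s := by
  rw [← CommRingCat.comp_apply, Scheme.Hom.appLE_comp_appLE]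

theorem appLE_congr_hom {A B : Scheme.{u}} {f g : A ⟶ B} (h : f = g) (U : B.Opens) (W : A.Opens)
    (e : W ≤ f ⁻¹ᵁ U) (s : Γ(B, U)) : f.appLE U W e s = g.appLE U W (h ▸ e) s := by
  subst h; rfl

variable {k : Type u} [Field k] {G X Y X' Y' : Over (Spec (CommRingCat.of k))} [GrpObj G]
  [LocallyOfFiniteType G.hom]

theorem isGoodQuot_of_open {a : AlgGrp.Action G X} {φ : X ⟶ Y} (h : NRQuot.IsGoodQuot a φ)
    (a' : AlgGrp.Action G X') (φ' : X' ⟶ Y') (j : X' ⟶ X) (u : Y' ⟶ Y)
    [IsOpenImmersion j.left] [IsOpenImmersion u.left]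
    (hj : a'.act ≫ j = (G ◁ j) ≫ a.act) (hsq : φ' ≫ u = j ≫ φ)
    (hr : Set.range j.left.base = φ.left.base ⁻¹' Set.range u.left.base)
    (haff : IsAffineHom φ'.left) : NRQuot.IsGoodQuot a' φ' := by
  have hsqb : ∀ x : X'.left, u.left.base (φ'.left.base x) = φ.left.base (j.left.base x) := fun x =>
    congr($(congrArg CommaMorphism.left hsq).base x)
  have hinv : GIT.IsInvariant a' φ' := by
    have e : a'.act ≫ φ' ≫ u = snd G X' ≫ φ' ≫ u := by
      rw [hsq, ← Category.assoc, hj, Category.assoc, h.inv, ← Category.assoc, whiskerLeft_snd,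
        Category.assoc]
    apply Over.OverMorphism.ext
    rw [← cancel_mono u.left]
    simpa only [Over.comp_left, Category.assoc] using congrArg CommaMorphism.left e
  have hinj2 : ∀ q : (G ⊗ X').left,
      (snd G X).left.base ((G ◁ j).left.base q) = j.left.base ((snd G X').left.base q) := fun q =>
    congr($(congrArg CommaMorphism.left (whiskerLeft_snd G j)).base q)
  have hact2 : ∀ q : (G ⊗ X').left,
      a.act.left.base ((G ◁ j).left.base q) = j.left.base (a'.act.left.base q) := fun q =>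
    (congr($(congrArg CommaMorphism.left hj).base q)).symm
  have hrange : Set.range (G ◁ j).left.base = (snd G X).left.base ⁻¹' Set.range j.left.base := by
    rw [Over.whiskerLeft_left]
    rw [Scheme.Pullback.range_map]
    simp only [Scheme.Hom.id_base, TopCat.coe_id, Set.range_id, Set.preimage_univ, Set.univ_inter]
    rfl
  haveI : IsOpenImmersion (G ◁ j).left := by rw [Over.whiskerLeft_left]; infer_instance
  have hL : (G ◁ j).left ≫ a.act.left = a'.act.left ≫ j.left := by
    rw [← Over.comp_left, ← Over.comp_left, hj]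
  have hS : (G ◁ j).left ≫ (snd G X).left = (snd G X').left ≫ j.left := by
    rw [← Over.comp_left, ← Over.comp_left, whiskerLeft_snd]
  -- closures of invariant sets
  have hC : ∀ W : Set X'.left, IsClosed W → NRQuot.IsInvariantSet a' W →
      NRQuot.IsInvariantSet a (closure (j.left.base '' W)) ∧
        ∀ w : X'.left, j.left.base w ∈ closure (j.left.base '' W) → w ∈ W := by
    intro W hW hWi
    refine ⟨isInvariantSet_closure a fun p hp => ?_, fun w hw => ?_⟩
    · obtain ⟨w, hw, hwp⟩ := hp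
      obtain ⟨q, rfl⟩ : p ∈ Set.range (G ◁ j).left.base := by rw [hrange]; exact ⟨w, hwp⟩
      rw [hinj2] at hwp
      obtain rfl := j.left.isOpenEmbedding.injective hwp
      exact ⟨_, hWi q hw, (hact2 q).symm⟩
    · have := j.left.isOpenEmbedding.isInducing.closure_eq_preimage_closure_image W
      rw [hW.closure_eq] at this
      rw [this]; exact hw
  refine ⟨haff, hinv, fun V => ?_, fun W hW hWi => ?_, fun J W hW hWi => ?_⟩
  · -- sections
    let V' : Y.left.Opens := u.left ''ᵁ V
    have hV : V = u.left ⁻¹ᵁ V' := (u.left.preimage_image_eq V).symm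
    let W' : X.left.Opens := φ.left ⁻¹ᵁ V'
    have hW : φ'.left ⁻¹ᵁ V = j.left ⁻¹ᵁ W' := by
      refine TopologicalSpace.Opens.ext (Set.ext fun x => ?_)
      show φ'.left.base x ∈ V ↔ φ.left.base (j.left.base x) ∈ V'
      conv_lhs => rw [hV]
      rw [← hsqb x]; rfl
    have hW'r : W' ≤ j.left.opensRange := fun x hx => by
      show x ∈ Set.range j.left.base
      rw [hr]
      obtain ⟨y, -, hy⟩ := hx
      exact ⟨y, hy⟩
    have bu := bijective_appLE u.left hV (fun x ⟨y, _, hy⟩ => ⟨y, hy⟩) hV.le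
    have bj := bijective_appLE j.left hW hW'r hW.le
    have comm : ∀ s : Γ(Y.left, V'),
        φ'.left.app V (u.left.appLE V' V hV.le s) = j.left.appLE W' (φ'.left ⁻¹ᵁ V) hW.le (φ.left.app V' s) := by
      intro s
      rw [Scheme.Hom.app_eq_appLE, Scheme.Hom.app_eq_appLE, appLE_appLE, appLE_appLE]
      exact appLE_congr_hom (congrArg CommaMorphism.left hsq) _ _ _ _
    let P : TopologicalSpace.Opens (G ⊗ X).left := a.act.left ⁻¹ᵁ W' ⊓ (snd G X).left ⁻¹ᵁ W'
    let Q : TopologicalSpace.Opens (G ⊗ X').left :=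
      a'.act.left ⁻¹ᵁ (φ'.left ⁻¹ᵁ V) ⊓ (snd G X').left ⁻¹ᵁ (φ'.left ⁻¹ᵁ V)
    have hQ : Q = (G ◁ j).left ⁻¹ᵁ P := by
      refine TopologicalSpace.Opens.ext (Set.ext fun q => ?_)
      show a'.act.left.base q ∈ φ'.left ⁻¹ᵁ V ∧ (snd G X').left.base q ∈ φ'.left ⁻¹ᵁ V ↔
        a.act.left.base ((G ◁ j).left.base q) ∈ W' ∧ (snd G X).left.base ((G ◁ j).left.base q) ∈ W'
      rw [hact2, hinj2, hW]; rfl
    have hP : P ≤ (G ◁ j).left.opensRange := fun p hp => by
      show p ∈ Set.range (G ◁ j).left.base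
      rw [hrange]; exact hW'r hp.2
    have bP := bijective_appLE (G ◁ j).left hQ hP hQ.le
    have key : ∀ f : Γ(X.left, W'),
        GIT.IsInvSection a' φ' V (j.left.appLE W' (φ'.left ⁻¹ᵁ V) hW.le f) ↔ GIT.IsInvSection a φ V' f := by
      intro f
      unfold GIT.IsInvSection
      rw [appLE_appLE, appLE_appLE]
      constructor
      · intro he
        refine bP.1 ?_
        rw [appLE_appLE, appLE_appLE]
        exact ((appLE_congr_hom hL _ _ _ _).trans he).trans (appLE_congr_hom hS.symm _ _ _ _)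
      · intro he
        have he' := congrArg ((G ◁ j).left.appLE P Q hQ.le) he
        rw [appLE_appLE, appLE_appLE] at he'
        exact ((appLE_congr_hom hL.symm _ _ _ _).trans he').trans (appLE_congr_hom hS _ _ _ _)
    obtain ⟨hi, hrg⟩ := h.sections V'
    refine ⟨fun s t hst => ?_, Set.ext fun f => ⟨?_, fun hf => ?_⟩⟩
    · obtain ⟨s, rfl⟩ := bu.2 s
      obtain ⟨t, rfl⟩ := bu.2 t
      rw [comm, comm] at hst
      rw [hi (bj.1 hst)]
    · rintro ⟨s, rfl⟩
      obtain ⟨s, rfl⟩ := bu.2 s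
      show GIT.IsInvSection a' φ' V _
      rw [comm, key]
      exact hrg.subset ⟨s, rfl⟩
    · obtain ⟨f, rfl⟩ := bj.2 f
      obtain ⟨s, hs⟩ := hrg.ge ((key f).mp hf)
      exact ⟨u.left.appLE V' V hV.le s, by rw [comm, hs]⟩
  · -- closed images
    obtain ⟨h1, h2⟩ := hC W hW hWi
    have hc := h.closed _ isClosed_closure h1
    have : φ'.left.base '' W = u.left.base ⁻¹' (φ.left.base '' closure (j.left.base '' W)) := by
      ext y
      constructor
      · rintro ⟨w, hw, rfl⟩
        exact ⟨j.left.base w, subset_closure ⟨w, hw, rfl⟩, (hsqb w).symm⟩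
      · rintro ⟨x, hx, hxy⟩
        obtain ⟨w, rfl⟩ : x ∈ Set.range j.left.base := by rw [hr]; exact ⟨y, hxy.symm⟩
        exact ⟨w, h2 w hx, u.left.isOpenEmbedding.injective ((hsqb w).trans hxy)⟩
    rw [this]
    exact hc.preimage u.left.continuous
  · -- intersections
    refine subset_antisymm (Set.image_iInter_subset _ _) fun y hy => ?_
    have hy' : u.left.base y ∈ ⋂ i, φ.left.base '' closure (j.left.base '' W i) := by
      refine Set.mem_iInter.mpr fun i => ?_
      obtain ⟨w, hw, rfl⟩ := Set.mem_iInter.mp hy i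
      exact ⟨j.left.base w, subset_closure ⟨w, hw, rfl⟩, (hsqb w).symm⟩
    rw [← h.inter J _ (fun i => isClosed_closure) (fun i => (hC _ (hW i) (hWi i)).1)] at hy'
    obtain ⟨x, hx, hxy⟩ := hy'
    obtain ⟨w, rfl⟩ : x ∈ Set.range j.left.base := by rw [hr]; exact ⟨y, hxy.symm⟩
    exact ⟨w, Set.mem_iInter.mpr fun i => (hC _ (hW i) (hWi i)).2 w (Set.mem_iInter.mp hx i),
      u.left.isOpenEmbedding.injective ((hsqb w).trans hxy)⟩

end Groth.Agent.GoodQuot99
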